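import Cfsg.Agent.Lib.TC.Enc

namespace Cfsg.Agent.Lib.Schur.Fi23c.E2.CT0

open Cfsg.Agent.Lib.TC.Enc

set_option maxRecDepth 100000

/-- A part of the chunks of the certificate. -/
noncomputable def tree : Tr Nat :=
(Tr.leaf (nat_lit 0xbb00c455be1f0db032ef86877c2b7be113df064ef829a80c451b5fc0df017eb7a7f6bf33b5f51daf83ed7b7a00c449ade22d6ee06d79bb4b9afadd8fd6ea2eb745980c43da5c5cd2e0d696f035b95b9db0dd2dc1e96dd880c4638d929ced53e7698f3b401a5ad5cacc5e765d780c4637d729cac53e5618f2b03b957eccece5e15d3780c4019d8d4c6b496359431ac1d8d5ecbeaa0e356d700c463753a9c2a73e1528f0a8bb85415c29f5e55e5680c401956dcbe98d5f4b62fa55b6d1c0c6a81dd485600c4018535cba8ad5d4462ea1db6504dba855df497580c4496cfe2b67d05b3dbab9c817d18fb6782d93a7400c44964de2b26d05935ba899017500fa6675db3b1400c4195cc0aae5e4552d02d9c095cb02ae575d12a1300c41954a0a9e4d7d72e1aa928954902aa475cd227280c4494c822a63f0531eba58daf4c76cb2682d31c3280c42d44654a23094d1602c989d4456c9628057291200c4193c4b0aa4e44f111a788093c3c29e1d5c90d3180c42d342d49213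7d117426841d341ec8e0c055215100c43d2c11c9606d47010298d5b13fc0a2261cb003080c42d23f709a14948fc4247d9d23eac85f204f0c5000c43d1bddc85eb7cb026237a5b03c809a0a1c6f3cf80c462fbaa989e13c0ee8e276812bf9589d85c4eb4e80c43d0ba308decd42e7621735aeb90091f01c2e5ce00c462e372975c37c4ef8de6f811bc5581bc5c0dd8e00c40113a667db57b8d57df6cb2fb6117dae3bed6cd00c462d33696da53bcd1ba0703af3415799e5bccecc80c462cb1b081c53bacb8db64810b8d575905bac7ac80c401036f0657e03ed485a61b6e309371824b8c0cb00c462b2e3079a73aebcb9d653adaed56d745b6b9ab00c400f333059632b4b6b9c6236c2d1369664b4b26b00c400eb140717d032afb9655aecab8f655a2b2acaa00c454c2a7051472b0a885853dad2d53554a4b0a4c980c4629a7295d437b6bd8d7503aba7d55d3c5ae9d8980c400dadc069617a6960195532a265159303ac97a880c454aa530451d2aa938554936aa46c614c4a48f8800c450a230061457a0877d445dab269145123a8884800c400ba6dc4d0a02c95613425a8204d4d061a682a780c45491ff03cf52a47e8523eb691f1348f75aa908700c45089e00551b79c737d13bb289dac511439e746680c44881c6240e002886b8d36009a00f38dc2a06d8600c45079a80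48f3798667cf34b279a113ccf5a2756580c4487192238c602272b8b2fae718ac40de298602580c42c6975434b891a5b010359c696ac2cb009a596500c448615a230aa01e65b8a292e6150f30a759c614480c43c5941c2c9ed164e00e2f5a492c034ae1944c4400c43c5125c2890d144700c28da4114d288d5964dc380c46238f692487392428c920805929524805903ec280c46228da920773903a8c81c8051115186f5923f0280c40048f0a1c6840e33187190838c421c6158a2fc200c46220a29185b38c2c8c615ba30aac207058c292200c40040d54144c90a25405121c288ec104400e2e4180c400309dc1040d081f6040f5a1870014421881d6100c448186a20c3300618b820a80206cf0c2e286168080c450104e608257820e0030a321045108203840fa000c45408330000e0040d84105b6082930412482080000c46e00140040db0004d4001e8000b3000390000))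

end Cfsg.Agent.Lib.Schur.Fi23c.E2.CT0
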